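import Groth.Agent.AICAcyc.Split
import Groth.Agent.EtMV.GabberH
import Groth.Agent.EtMV.ConstOpen
import Groth.Agent.EtEmbFin.LocConst
import Groth.Agent.ModPairLocal.Lattice
import Groth.Agent.EtPullExact.Basic
import Groth.Prelude.Def_Curves
import Mathlib

/-!
# Constant finite sheaves on absolutely integrally closed affine schemes are acyclic
-/

set_option autoImplicit false
set_option backward.isDefEq.respectTransparency false
set_option backward.isDefEq.respectTransparency.types false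
set_option linter.style.haveILetI false
set_option linter.auxLemma false
set_option maxHeartbeats 1000000

universe u

open CategoryTheory CategoryTheory.Limits CategoryTheory.Abelian AlgebraicGeometry Opposite Polynomial

noncomputable section

namespace Groth.Agent.AICAcyc

attribute [local instance 100000] EtCoh.H._proof_1 EtMV.hext
attribute [local instance 200000] EtMV.hextAb

open EtMV (oo P res σ R)

/-- localizations of absolutely integrally closed rings are absolutely integrally closed -/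
theorem isAIC_of_isLocalization {C L : Type u} [CommRing C] [CommRing L] [Algebra C L] (M : Submonoid C)
    [IsLocalization M L] (hC : Curves.IsAIC C) : Curves.IsAIC L := by
  intro g hg hd
  rcases subsingleton_or_nontrivial L with hL | hL
  · exact ⟨0, Subsingleton.elim _ _⟩
  obtain ⟨⟨b, hb⟩, hint⟩ :=
    IsLocalization.exist_integer_multiples M (Finset.range (g.natDegree + 1)) fun i => g.coeff i
  set s : L := algebraMap C L b
  have hu : IsUnit s := IsLocalization.map_units _ (⟨b, hb⟩ : M)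
  have hl : g.scaleRoots s ∈ Polynomial.lifts (algebraMap C L) := by
    rw [Polynomial.lifts_iff_coeff_lifts]
    intro i
    rw [coeff_scaleRoots]
    rcases lt_trichotomy i g.natDegree with h | rfl | h
    · obtain ⟨c, hc⟩ := hint i (Finset.mem_range.2 (by omega))
      refine ⟨c * b ^ (g.natDegree - i - 1), ?_⟩
      rw [map_mul, map_pow, hc, Algebra.smul_def]
      show s * g.coeff i * s ^ (g.natDegree - i - 1) = g.coeff i * s ^ (g.natDegree - i)
      rw [mul_comm s, mul_assoc, ← pow_succ']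
      congr 2
      omega
    · exact ⟨1, by rw [map_one, Nat.sub_self, pow_zero, mul_one]; exact hg.symm⟩
    · exact ⟨0, by rw [map_zero, coeff_eq_zero_of_natDegree_lt h, zero_mul]⟩
  obtain ⟨q, hq, hqd, hqm⟩ := Polynomial.lifts_and_degree_eq_and_monic hl ((monic_scaleRoots_iff s).2 hg)
  obtain ⟨y, hy⟩ := hC q hqm (by
    rw [Polynomial.natDegree_eq_of_degree_eq hqd, natDegree_scaleRoots]; exact hd)
  obtain ⟨w, hw⟩ := hu
  refine ⟨algebraMap C L y * ↑w⁻¹, ?_⟩
  have h1 : (g.scaleRoots s).eval (s * (algebraMap C L y * ↑w⁻¹)) =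
      s ^ g.natDegree * g.eval (algebraMap C L y * ↑w⁻¹) := by
    simpa [eval₂_id] using scaleRoots_eval₂_mul (p := g) (RingHom.id _) (algebraMap C L y * ↑w⁻¹) s
  have h2 : s * (algebraMap C L y * ↑w⁻¹) = algebraMap C L y := by
    rw [← hw, mul_left_comm, Units.mul_inv, mul_one]
  rw [h2, ← hq, Polynomial.eval_map, eval₂_at_apply, hy, map_zero] at h1
  exact ((Units.isUnit w).pow g.natDegree).mul_right_eq_zero.1 (hw ▸ h1.symm)

/-- local rings of absolutely integrally closed rings are strictly henselian -/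
theorem isStrictlyHenselian_aic {A : Type u} [CommRing A] [IsLocalRing A] (hA : Curves.IsAIC A) :
    EtCoh.IsStrictlyHenselianLocalRing A := by
  haveI := ModPairLocal.henselian_of_aic hA
  haveI : IsAlgClosed (IsLocalRing.ResidueField A) := IsAlgClosed.of_exists_root _ fun q hq hirr => by
    have hl : q ∈ Polynomial.lifts (IsLocalRing.residue A) := by
      rw [Polynomial.lifts_iff_coeff_lifts]
      exact fun i => IsLocalRing.residue_surjective _
    obtain ⟨p, hp, hpd, hpm⟩ := Polynomial.lifts_and_degree_eq_and_monic hl hq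
    obtain ⟨x, hx⟩ := hA p hpm (by rw [natDegree_eq_of_degree_eq hpd]; exact hirr.natDegree_pos)
    refine ⟨IsLocalRing.residue A x, ?_⟩
    rw [← hp, Polynomial.eval_map, eval₂_at_apply, hx, map_zero]
  exact ⟨inferInstance, inferInstance⟩

variable {R₀ : Type u} [CommRing R₀] (hR : Curves.IsAIC R₀) {M : Type} [AddCommGroup M] [Finite M]

include hR in
theorem locIso : EtMV.LocIso (Spec (CommRingCat.of R₀)) :=
  EtMV.locIso_Spec R₀ fun p => isStrictlyHenselian_aic (isAIC_of_isLocalization p.asIdeal.primeCompl hR)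

/-- a section on the intersection which is a difference kills the connecting class -/
theorem fac_of_values {X : Scheme.{u}} {U V W : X.Opens} (h₁ : U ≤ W) (h₂ : V ≤ W) {M : Type} [AddCommGroup M]
    (φ : (P X).obj (oo (U ⊓ V)) ⟶ EtCoh.const X M) (sa : EtCoh.sect (EtCoh.const X M) (oo U))
    (sb : EtCoh.sect (EtCoh.const X M) (oo V))
    (h : ∀ (p : X) (hU : p ∈ U) (hV : p ∈ V),
      EtMV.valAt (σ φ) (⟨p, hU, hV⟩ : (U ⊓ V : X.Opens).toScheme) + EtMV.valAt sb (⟨p, hV⟩ : V.toScheme) =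
        EtMV.valAt sa (⟨p, hU⟩ : U.toScheme)) :
    φ = (EtMV.sc' h₁ h₂).f ≫ biprod.desc (σ.symm sa) (σ.symm sb) := by
  have key : φ + (P X).map (res (inf_le_right : U ⊓ V ≤ V)) ≫ σ.symm sb =
      (P X).map (res (inf_le_left : U ⊓ V ≤ U)) ≫ σ.symm sa := by
    apply σ.injective
    rw [EtMV.σ_add, EtMV.σ_map, EtMV.σ_map, Equiv.apply_symm_apply, Equiv.apply_symm_apply]
    refine EtMV.ext_valAt_all fun w => ?_
    have ea := EtMV.valAt_res (res (inf_le_left : U ⊓ V ≤ U)) sa w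
    have eb := EtMV.valAt_res (res (inf_le_right : U ⊓ V ≤ V)) sb w
    refine (EtEmbFin.valAt_add _ _ w).trans ?_
    refine Eq.trans ?_ ea.symm
    refine Eq.trans (congrArg (EtMV.valAt (σ φ) w + ·) eb) ?_
    obtain ⟨p, hpU, hpV⟩ := w
    have el : ∀ {A B : X.Opens} (hAB : A ≤ B) (q : X) (hq : q ∈ A),
        (res hAB).left (⟨q, hq⟩ : A.toScheme) = (⟨q, hAB hq⟩ : B.toScheme) := fun {A B} hAB q hq =>
      B.ι.isOpenEmbedding.injective (by
        show (X.homOfLE hAB ≫ B.ι) _ = _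
        rw [X.homOfLE_ι]
        rfl)
    rw [el inf_le_left p ⟨hpU, hpV⟩, el inf_le_right p ⟨hpU, hpV⟩]
    exact h p hpU hpV
  rw [eq_sub_of_add_eq key]
  simp [EtMV.sc', sub_eq_add_neg]

include hR in
/-- degree one classes glue on two basic opens covering a basic open -/
theorem step (a b : Γ(Spec (CommRingCat.of R₀), ⊤))
    (h₁ : (Spec (CommRingCat.of R₀)).basicOpen (a * (a + b)) ≤ (Spec (CommRingCat.of R₀)).basicOpen (a + b))
    (h₂ : (Spec (CommRingCat.of R₀)).basicOpen (b * (a + b)) ≤ (Spec (CommRingCat.of R₀)).basicOpen (a + b))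
    (x : Ext ((P _).obj (oo ((Spec (CommRingCat.of R₀)).basicOpen (a + b)))) (EtCoh.const _ M) 1)
    (e₁ : R h₁ x = 0) (e₂ : R h₂ x = 0) : x = 0 := by
  let X := Spec (CommRingCat.of R₀)
  let U := X.basicOpen (a * (a + b))
  let V := X.basicOpen (b * (a + b))
  let W := X.basicOpen (a + b)
  let F := EtCoh.const X M
  have hUV : W ≤ U ⊔ V := by
    intro p hp
    rcases EtMV.basicOpen_add_le a b hp with h | h
    · exact Or.inl ((Scheme.basicOpen_mul _ _ _).ge ⟨h, hp⟩)
    · exact Or.inr ((Scheme.basicOpen_mul _ _ _).ge ⟨h, hp⟩)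
  have hS := EtMV.sc'_shortExact h₁ h₂ hUV
  have h0 : (Ext.mk₀ (EtMV.sc' h₁ h₂).g).comp x (zero_add _) = 0 := by
    apply Ext.biprodAddEquiv.injective
    rw [map_zero]
    refine Prod.ext ?_ ?_
    · show (Ext.mk₀ biprod.inl).comp ((Ext.mk₀ (EtMV.sc' h₁ h₂).g).comp x (zero_add _)) (zero_add _) = 0
      rw [Ext.mk₀_comp_mk₀_assoc]
      simpa [EtMV.sc', EtMV.R] using e₁
    · show (Ext.mk₀ biprod.inr).comp ((Ext.mk₀ (EtMV.sc' h₁ h₂).g).comp x (zero_add _)) (zero_add _) = 0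
      rw [Ext.mk₀_comp_mk₀_assoc]
      simpa [EtMV.sc', EtMV.R] using e₂
  obtain ⟨y, hy⟩ := Ext.contravariant_sequence_exact₃ hS F x h0 (n₀ := 0) (add_comm 1 0)
  obtain ⟨φ, hφ⟩ : ∃ φ : (P X).obj (oo (U ⊓ V)) ⟶ EtCoh.const X M, Ext.mk₀ φ = y := (Ext.mk₀_bijective _ _).2 y
  subst hφ
  -- the localization
  let e := (Scheme.ΓSpecIso (CommRingCat.of R₀)).hom.hom
  let c : R₀ := e (a + b)
  let L := Localization.Away c
  let i : R₀ →+* L := algebraMap R₀ L
  have hW : (W : Set X) = Set.range (PrimeSpectrum.comap i) := by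
    rw [PrimeSpectrum.localization_away_comap_range L c]
    exact congrArg (fun O : X.Opens => (O : Set X)) (basicOpen_eq_of_affine' (R := CommRingCat.of R₀) (a + b))
  let θ : PrimeSpectrum L → X := PrimeSpectrum.comap i
  have hθ : Topology.IsOpenEmbedding θ := PrimeSpectrum.localization_away_isOpenEmbedding L c
  have hmem : ∀ (d : Γ(X, ⊤)) (q : PrimeSpectrum L), θ q ∈ X.basicOpen d ↔ q ∈ PrimeSpectrum.basicOpen (i (e d)) := by
    intro d q
    rw [show X.basicOpen d = _ from basicOpen_eq_of_affine' (R := CommRingCat.of R₀) d]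
    rfl
  let κ : {p : X // p ∈ W} → PrimeSpectrum L := fun w => hθ.isEmbedding.toHomeomorph.symm ⟨w.1, by rw [← hW]; exact w.2⟩
  have hκc : Continuous κ := hθ.isEmbedding.toHomeomorph.symm.continuous.comp (continuous_subtype_val.subtype_mk _)
  have hκ : ∀ w, θ (κ w) = w.1 := fun w => congrArg Subtype.val (hθ.isEmbedding.toHomeomorph.apply_symm_apply _)
  have hθW : ∀ q, θ q ∈ W := fun q => by rw [← SetLike.mem_coe, hW]; exact ⟨q, rfl⟩
  have hκθ : ∀ q, κ ⟨θ q, hθW q⟩ = q := fun q => hθ.injective (hκ _)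
  let f := i (e a)
  let g := i (e b)
  have hfg : ∀ q : PrimeSpectrum L, q ∈ PrimeSpectrum.basicOpen f ∨ q ∈ PrimeSpectrum.basicOpen g := by
    intro q
    by_contra hne
    rw [not_or] at hne
    have h1 : i c ∈ q.asIdeal := by
      show i (e (a + b)) ∈ _
      rw [map_add, map_add]
      exact q.asIdeal.add_mem (not_not.1 hne.1) (not_not.1 hne.2)
    exact q.isPrime.ne_top (q.asIdeal.eq_top_of_isUnit_mem h1 (IsLocalization.Away.algebraMap_isUnit c))
  have hU : ∀ q, θ q ∈ U ↔ q ∈ PrimeSpectrum.basicOpen f := fun q =>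
    ⟨fun h => (hmem a q).1 ((Scheme.basicOpen_mul _ _ _).le h).1,
      fun h => (Scheme.basicOpen_mul _ _ _).ge ⟨(hmem a q).2 h, hθW q⟩⟩
  have hV : ∀ q, θ q ∈ V ↔ q ∈ PrimeSpectrum.basicOpen g := fun q =>
    ⟨fun h => (hmem b q).1 ((Scheme.basicOpen_mul _ _ _).le h).1,
      fun h => (Scheme.basicOpen_mul _ _ _).ge ⟨(hmem b q).2 h, hθW q⟩⟩
  let sφ := σ φ
  let hfun : ↥(PrimeSpectrum.basicOpen (f * g)) → M := fun q =>
    EtMV.valAt sφ (⟨θ q.1, (hU q.1).2 (mem_left f g q.2), (hV q.1).2 (mem_right f g q.2)⟩ : (U ⊓ V : X.Opens).toScheme)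
  have hh : IsLocallyConstant hfun := (EtMV.isLocallyConstant_valAt sφ).comp_continuous
    ((hθ.continuous.comp continuous_subtype_val).subtype_mk _)
  obtain ⟨fa, fb, hfa, hfb, hab⟩ := splits (isAIC_of_isLocalization (Submonoid.powers c) hR) f g hfg
    (Nat.card M) M le_rfl hfun hh
  have hκU : ∀ w : {p : X // p ∈ U}, κ ⟨w.1, h₁ w.2⟩ ∈ PrimeSpectrum.basicOpen f := fun w =>
    (hU _).1 ((hκ ⟨w.1, h₁ w.2⟩).symm ▸ w.2)
  have hκV : ∀ w : {p : X // p ∈ V}, κ ⟨w.1, h₂ w.2⟩ ∈ PrimeSpectrum.basicOpen g := fun w =>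
    (hV _).1 ((hκ ⟨w.1, h₂ w.2⟩).symm ▸ w.2)
  obtain ⟨sa, hsa⟩ := EtMV.exists_of_isLocallyConstant (M := M) (oo U)
    (fun w : U.toScheme => - fa ⟨κ ⟨w.1, h₁ w.2⟩, hκU ⟨w.1, w.2⟩⟩)
    ((hfa.comp_continuous ((hκc.comp (continuous_subtype_val.subtype_mk _)).subtype_mk _)).comp fun z => -z)
  obtain ⟨sb, hsb⟩ := EtMV.exists_of_isLocallyConstant (M := M) (oo V)
    (fun w : V.toScheme => - fb ⟨κ ⟨w.1, h₂ w.2⟩, hκV ⟨w.1, w.2⟩⟩)
    ((hfb.comp_continuous ((hκc.comp (continuous_subtype_val.subtype_mk _)).subtype_mk _)).comp fun z => -z)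
  have hfac : φ = (EtMV.sc' h₁ h₂).f ≫ biprod.desc (σ.symm sa) (σ.symm sb) := by
    refine fac_of_values h₁ h₂ φ sa sb fun p hpU hpV => ?_
    let w₀ : {p : X // p ∈ W} := ⟨p, h₁ hpU⟩
    have hq : κ w₀ ∈ PrimeSpectrum.basicOpen (f * g) := by
      rw [PrimeSpectrum.basicOpen_mul]
      exact ⟨hκU ⟨p, hpU⟩, hκV ⟨p, hpV⟩⟩
    have h := hab ⟨κ w₀, hq⟩
    have h' : hfun ⟨κ w₀, hq⟩ = EtMV.valAt sφ (⟨p, hpU, hpV⟩ : (U ⊓ V : X.Opens).toScheme) :=
      congrArg (EtMV.valAt sφ) (Subtype.ext (hκ w₀))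
    rw [h'] at h
    rw [hsa, hsb]
    show EtMV.valAt sφ (⟨p, hpU, hpV⟩ : (U ⊓ V : X.Opens).toScheme) + -fb ⟨κ w₀, _⟩ = -fa ⟨κ w₀, _⟩
    rw [h]
    abel
  rw [← hy, hfac, ← Ext.mk₀_comp_mk₀, ← Ext.comp_assoc _ _ _ (add_zero 1) (zero_add 0) (by omega),
    ShortComplex.ShortExact.extClass_comp, Ext.zero_comp]

include hR in
/-- the theorem -/
theorem subsingleton_H (q : ℕ) (hq : 0 < q) :
    Subsingleton (EtCoh.H (Spec (CommRingCat.of R₀)) (EtCoh.const (Spec (CommRingCat.of R₀)) M) q) := by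
  obtain ⟨n, rfl⟩ : ∃ n, q = n + 1 := ⟨q - 1, by omega⟩
  refine EtMV.subsingleton_H_of_vanish _ (n + 1) fun U hU => ?_
  subst hU
  rw [← Scheme.basicOpen_of_isUnit (Spec (CommRingCat.of R₀))
    (isUnit_one (M := Γ(Spec (CommRingCat.of R₀), ⊤)))]
  exact EtMV.gabber_vanish (locIso hR) (isAffineOpen_top _) (fun a b h₁ h₂ x => step hR a b h₁ h₂ x) n 1

end Groth.Agent.AICAcyc
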