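import Mathlib
import Groth.Agent.SubtrLib.AIC

/-!
# Locally constant functions on an intersection of two basic opens of an absolutely integrally closed ring

If every monic polynomial of positive degree over `R` has a root and `D(f) ∪ D(g) = Spec R`, then a locally
constant function on `D(fg)` with values in a finite abelian group is a difference of locally constant
functions on `D(g)` and `D(f)`.
-/

set_option autoImplicit false
set_option linter.style.haveILetI false
set_option maxHeartbeats 1000000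

noncomputable section

universe u v

open Polynomial PrimeSpectrum Topology

namespace Groth.Agent.AICAcyc

open Groth.Agent.SubtrLib (IsAIC)

theorem isLocallyConstant_of_isClosed_fibers {S A : Type*} [TopologicalSpace S] [Finite A] {a : S → A}
    (h : ∀ x : A, IsClosed (a ⁻¹' {x})) : IsLocallyConstant a := by
  refine IsLocallyConstant.iff_isOpen_fiber.2 fun x => ?_
  have : a ⁻¹' {x} = (⋃ y ∈ ({x}ᶜ : Set A), a ⁻¹' {y})ᶜ := by
    ext p
    simp only [Set.mem_preimage, Set.mem_singleton_iff, Set.mem_compl_iff, Set.mem_iUnion, exists_prop]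
    exact ⟨fun e ⟨y, hy, e'⟩ => hy (e'.symm.trans e), fun hn => by_contra fun e => hn ⟨a p, e, rfl⟩⟩
  rw [this]
  exact ((Set.toFinite ({x}ᶜ : Set A)).isClosed_biUnion fun y _ => h y).isOpen_compl

section Cyclo

variable {k : Type*} [Field k] {ℓ : ℕ} [hℓ : Fact ℓ.Prime] (z : k)

/-- labels with pairwise invertible differences -/
def lab (a : ZMod ℓ) : k := ∑ i ∈ Finset.range a.val, z ^ i

variable {z} (hz : ∑ i ∈ Finset.range ℓ, z ^ i = 0)

include hz

theorem z_pow : z ^ ℓ = 1 := by
  have h := geom_sum_mul z ℓ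
  rw [hz, zero_mul] at h
  exact (sub_eq_zero.1 h.symm)

theorem sum_mod (n : ℕ) : ∑ i ∈ Finset.range n, z ^ i = ∑ i ∈ Finset.range (n % ℓ), z ^ i := by
  have h0 : ∀ q, ∑ i ∈ Finset.range (ℓ * q), z ^ i = 0 := by
    intro q
    induction q with
    | zero => simp
    | succ q ih =>
      rw [Nat.mul_succ, Finset.sum_range_add, ih, zero_add]
      simp_rw [pow_add, pow_mul, z_pow hz, one_pow, one_mul]
      exact hz
  conv_lhs => rw [← Nat.div_add_mod n ℓ]
  rw [Finset.sum_range_add, h0, zero_add]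
  simp_rw [pow_add, pow_mul, z_pow hz, one_pow, one_mul]

theorem lab_add (a m : ZMod ℓ) : lab z (a + m) = lab z m + z ^ m.val * lab z a := by
  unfold lab
  rw [add_comm a m, ZMod.val_add, ← sum_mod hz, Finset.sum_range_add, Finset.mul_sum]
  simp_rw [pow_add]

theorem lab_injective : Function.Injective (lab (ℓ := ℓ) z) := by
  intro a b hab
  by_contra hne
  have hz0 : z ≠ 0 := fun h0 => by
    have := z_pow hz
    rw [h0, zero_pow hℓ.out.ne_zero] at this
    exact zero_ne_one this
  have h1 : lab z (a - b) = 0 := by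
    have h := lab_add hz (a - b) b
    rw [sub_add_cancel, hab] at h
    exact (mul_eq_zero.1 (left_eq_add.1 h)).resolve_left (pow_ne_zero _ hz0)
  have hj : a - b ≠ 0 := sub_ne_zero.2 hne
  have h2 : ∀ q, ∑ i ∈ Finset.range ((a - b).val * q), z ^ i = 0 := by
    intro q
    induction q with
    | zero => simp
    | succ q ih =>
      rw [Nat.mul_succ, Finset.sum_range_add, ih, zero_add]
      simp_rw [pow_add]
      rw [← Finset.mul_sum]
      exact mul_eq_zero_of_right _ h1
  have h3 := h2 ((a - b)⁻¹).val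
  rw [sum_mod hz, ← ZMod.val_mul, mul_inv_cancel₀ hj, ZMod.val_one] at h3
  simp at h3

end Cyclo

theorem prod_split {S α : Type*} [CommRing S] (s : Finset α) (a x y : α → S) (F G : S) :
    ∃ D D₁ D₂ : S, ∏ i ∈ s, (a i + F * x i + G * y i) =
        ∏ i ∈ s, (a i + F * x i) + ∏ i ∈ s, (a i + G * y i) - ∏ i ∈ s, a i + F * G * D ∧
      ∏ i ∈ s, (a i + F * x i) = ∏ i ∈ s, a i + F * D₁ ∧
      ∏ i ∈ s, (a i + G * y i) = ∏ i ∈ s, a i + G * D₂ := by
  classical
  induction s using Finset.induction_on with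
  | empty => exact ⟨0, 0, 0, by simp⟩
  | insert i s hi ih =>
    obtain ⟨D, D₁, D₂, h, h₁, h₂⟩ := ih
    refine ⟨(a i + F * x i + G * y i) * D + y i * D₁ + x i * D₂,
      (a i + F * x i) * D₁ + x i * ∏ j ∈ s, a j, (a i + G * y i) * D₂ + y i * ∏ j ∈ s, a j, ?_, ?_, ?_⟩
    · rw [Finset.prod_insert hi, Finset.prod_insert hi, Finset.prod_insert hi, Finset.prod_insert hi, h, h₁, h₂]
      ring
    · rw [Finset.prod_insert hi, Finset.prod_insert hi, h₁]
      ring
    · rw [Finset.prod_insert hi, Finset.prod_insert hi, h₂]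
      ring

variable {R : Type u} [CommRing R]

/-- evaluation at a point -/
abbrev φ (p : PrimeSpectrum R) : R →+* p.asIdeal.ResidueField := algebraMap R _

theorem φ_eq_zero {p : PrimeSpectrum R} {x : R} : φ p x = 0 ↔ x ∈ p.asIdeal :=
  Ideal.algebraMap_residueField_eq_zero

theorem isClosed_zero (x : R) : IsClosed {p : PrimeSpectrum R | φ p x = 0} := by
  have : {p : PrimeSpectrum R | φ p x = 0} = zeroLocus {x} := by
    ext p; simp [mem_zeroLocus, φ_eq_zero]
  rw [this]
  exact isClosed_zeroLocus _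

/-- the indicator of a clopen of a basic open, times a power -/
theorem exists_clear (c : R) (C : Set ↥(basicOpen c)) (hC : IsClopen C) :
    ∃ K : ℕ, ∀ K', K < K' → ∃ t : R, (∀ (p : PrimeSpectrum R) (hp : p ∈ basicOpen c), ⟨p, hp⟩ ∈ C → φ p t = φ p (c ^ K')) ∧
      (∀ (p : PrimeSpectrum R) (hp : p ∈ basicOpen c), ⟨p, hp⟩ ∉ C → φ p t = 0) ∧
      (∀ (p : PrimeSpectrum R), p ∉ basicOpen c → φ p t = 0) := by
  let L := Localization.Away c
  have hr := localization_away_comap_range L c
  have hm : ∀ q : PrimeSpectrum L, PrimeSpectrum.comap (algebraMap R L) q ∈ basicOpen c :=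
    fun q => by rw [← SetLike.mem_coe, ← hr]; exact ⟨q, rfl⟩
  let cm : PrimeSpectrum L → ↥(basicOpen c) := fun q => ⟨_, hm q⟩
  have hcm : Continuous cm := (PrimeSpectrum.continuous_comap _).subtype_mk _
  obtain ⟨e, he, heq⟩ := exists_idempotent_basicOpen_eq_of_isClopen (hC.preimage hcm)
  obtain ⟨⟨a, ⟨_, k, rfl⟩⟩, ha⟩ := IsLocalization.surj (Submonoid.powers c) e
  refine ⟨k, fun K' hK' => ⟨a * c ^ (K' - k), ?_⟩⟩
  have key : ∀ (p : PrimeSpectrum R) (hp : p ∈ basicOpen c),
      (⟨p, hp⟩ ∈ C → φ p a = φ p (c ^ k)) ∧ (⟨p, hp⟩ ∉ C → φ p a = 0) := by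
    intro p hp
    have hu : IsUnit (φ p c) := IsUnit.mk0 _ fun h => hp (φ_eq_zero.1 h)
    let ψ : L →+* p.asIdeal.ResidueField := IsLocalization.Away.lift c hu
    have hψ : ∀ x, ψ (algebraMap R L x) = φ p x := fun x => IsLocalization.Away.lift_eq c hu x
    let q : PrimeSpectrum L := ⟨RingHom.ker ψ, RingHom.ker_isPrime ψ⟩
    have hq : cm q = ⟨p, hp⟩ := Subtype.ext (PrimeSpectrum.ext (Ideal.ext fun x => by
      show ψ (algebraMap R L x) = 0 ↔ x ∈ p.asIdeal
      rw [hψ, φ_eq_zero]))
    have h1 : φ p a = ψ e * φ p (c ^ k) := by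
      rw [← hψ, ← hψ, ← map_mul]
      exact congrArg ψ ha.symm
    have h2 : (⟨p, hp⟩ ∈ C) ↔ ψ e ≠ 0 := by
      rw [← hq]
      exact (Set.ext_iff.1 heq q)
    have h3 : ψ e = 0 ∨ ψ e = 1 := by
      have := congrArg ψ he.eq
      rw [map_mul] at this
      exact IsIdempotentElem.iff_eq_zero_or_one.1 this
    refine ⟨fun hin => ?_, fun hout => ?_⟩
    · rw [h1, h3.resolve_left (h2.1 hin), one_mul]
    · rw [h1, not_not.1 (fun hn => hout (h2.2 hn)), zero_mul]
  have hpow : k + (K' - k) = K' := by omega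
  refine ⟨fun p hp hin => ?_, fun p hp hout => ?_, fun p hp => ?_⟩
  · rw [map_mul, (key p hp).1 hin, ← map_mul, ← pow_add, hpow]
  · rw [map_mul, (key p hp).2 hout, zero_mul]
  · rw [map_mul, map_pow, φ_eq_zero.2 (not_not.1 hp), zero_pow (by omega), mul_zero]

variable (hR : IsAIC R) (f g : R) (hfg : ∀ p : PrimeSpectrum R, p ∈ basicOpen f ∨ p ∈ basicOpen g)

theorem mem_left {p : PrimeSpectrum R} (h : p ∈ basicOpen (f * g)) : p ∈ basicOpen f := basicOpen_mul_le_left f g h

theorem mem_right {p : PrimeSpectrum R} (h : p ∈ basicOpen (f * g)) : p ∈ basicOpen g := basicOpen_mul_le_right f g h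

/-- `h` is a difference of a locally constant function on `D(g)` and one on `D(f)` -/
def Splits {A : Type v} [AddCommGroup A] (h : ↥(basicOpen (f * g)) → A) : Prop :=
  ∃ (a : ↥(basicOpen f) → A) (b : ↥(basicOpen g) → A),
    IsLocallyConstant a ∧ IsLocallyConstant b ∧
      ∀ p : ↥(basicOpen (f * g)),
        h p = b ⟨p.1, mem_right f g p.2⟩ - a ⟨p.1, mem_left f g p.2⟩

include hR hfg in
theorem splits_prime (ℓ : ℕ) [hℓ : Fact ℓ.Prime] (h : ↥(basicOpen (f * g)) → ZMod ℓ)
    (hh : IsLocallyConstant h) : Splits f g h := by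
  classical
  haveI : NeZero ℓ := ⟨hℓ.out.ne_zero⟩
  rcases subsingleton_or_nontrivial R with hR' | hR'
  · refine ⟨fun _ => 0, fun _ => 0, IsLocallyConstant.const _, IsLocallyConstant.const _, fun p => ?_⟩
    exact (IsEmpty.false (α := PrimeSpectrum R) p.1).elim
  -- indicators
  choose Km hKm using fun m : ZMod ℓ => exists_clear (f * g) (h ⁻¹' {m}) (hh.isClopen_fiber m)
  let K := (Finset.univ.sup Km) + 1
  choose t ht1 ht2 ht3 using fun m : ZMod ℓ => hKm m K (Nat.lt_succ_of_le (Finset.le_sup (Finset.mem_univ m)))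
  -- F, G, w
  let N := 2 * ℓ
  have hN0 : N ≠ 0 := by have := hℓ.out.pos; omega
  have hcop : IsCoprime f g := by
    rw [← Ideal.isCoprime_span_singleton_iff, Ideal.isCoprime_iff_sup_eq, ← Ideal.span_union]
    by_contra hne
    obtain ⟨M, hM, hle⟩ := Ideal.exists_le_maximal _ hne
    rcases hfg ⟨M, hM.isPrime⟩ with h1 | h1
    · exact h1 (hle (Ideal.subset_span (Or.inl rfl)))
    · exact h1 (hle (Ideal.subset_span (Or.inr rfl)))
  obtain ⟨y, w, hyw⟩ : IsCoprime (f ^ K) ((g ^ K) ^ N) := by
    rw [← pow_mul]; exact hcop.pow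
  set F := y * f ^ K with hF
  set G := g ^ K with hG
  let c := w * ∑ i ∈ Finset.range N, F ^ i
  have hc : F ^ N + c * G ^ N = 1 := by
    have h1 : (∑ i ∈ Finset.range N, F ^ i) * (1 - F) = 1 - F ^ N := geom_sum_mul_neg F N
    have h2 : w * G ^ N = 1 - F := by rw [hF, hG]; linear_combination hyw
    linear_combination h1 + (∑ i ∈ Finset.range N, F ^ i) * h2
  obtain ⟨s, hs⟩ := hR (X ^ N + C c) (monic_X_pow_add_C c hN0) (by rw [natDegree_X_pow_add_C]; omega)
  simp only [eval_add, eval_pow, eval_X, eval_C] at hs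
  obtain ⟨ζ, hζ⟩ := hR (cyclotomic ℓ R) (cyclotomic.monic ℓ R)
    (by rw [natDegree_cyclotomic, Nat.totient_prime hℓ.out]; have := hℓ.out.two_le; omega)
  rw [cyclotomic_prime] at hζ
  simp only [eval_finset_sum, eval_pow, eval_X] at hζ
  let ι : ZMod ℓ → R := fun a => ∑ i ∈ Finset.range a.val, ζ ^ i
  have hι : ∀ (p : PrimeSpectrum R) a, φ p (ι a) = lab (φ p ζ) a := fun p a => by
    simp [ι, lab, map_sum, map_pow]
  have hz : ∀ p : PrimeSpectrum R, ∑ i ∈ Finset.range ℓ, (φ p ζ) ^ i = 0 := fun p => by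
    have := congrArg (φ p) hζ
    simpa [map_sum, map_pow] using this
  -- the polynomials
  let Q : ZMod ℓ → R[X] := fun m => ∏ u : ZMod ℓ, (X - C (F * ι u + G * s * ι (u + m)))
  have hQm : ∀ m, (Q m).Monic := fun m => monic_prod_of_monic _ _ fun u _ => monic_X_sub_C _
  have hQd : ∀ m, (Q m).natDegree = ℓ := fun m => by
    rw [natDegree_prod_of_monic _ _ fun u _ => monic_X_sub_C _]
    simp only [natDegree_X_sub_C, Finset.sum_const, Finset.card_univ, ZMod.card, smul_eq_mul, mul_one]
  have hQ : ∀ m, ∃ D : R[X], Q m - Q 0 = C (F * G) * D := by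
    have h0 : ∀ m, ∃ D : R[X], Q m = ∏ u : ZMod ℓ, (X + C F * (-C (ι u))) +
        ∏ u : ZMod ℓ, (X + C G * (-C (s * ι u))) - ∏ _u : ZMod ℓ, X + C (F * G) * D := by
      intro m
      obtain ⟨D, -, -, hD, -, -⟩ := prod_split (Finset.univ : Finset (ZMod ℓ)) (fun _ => (X : R[X]))
        (fun u => -C (ι u)) (fun u => -C (s * ι (u + m))) (C F) (C G)
      refine ⟨D, ?_⟩
      have e1 : Q m = ∏ u : ZMod ℓ, (X + C F * (-C (ι u)) + C G * (-C (s * ι (u + m)))) :=
        Finset.prod_congr rfl fun u _ => by simp only [map_add, map_mul]; ring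
      rw [e1, hD, ← map_mul]
      congr 3
      exact Fintype.prod_equiv (Equiv.addRight m) _ _ fun u => rfl
    intro m
    obtain ⟨D, hD⟩ := h0 m
    obtain ⟨D', hD'⟩ := h0 0
    exact ⟨D - D', by rw [hD, hD']; ring⟩
  choose D hD using hQ
  let T : R[X] := ∑ m : ZMod ℓ, ∑ k ∈ Finset.range ℓ, C (y * t m * (D m).coeff k) * X ^ k
  have hT : T.degree < (Q 0).degree := by
    rw [degree_eq_natDegree (hQm 0).ne_zero, hQd]
    refine lt_of_le_of_lt (degree_sum_le _ _) ?_
    rw [Finset.sup_lt_iff (WithBot.bot_lt_coe _)]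
    intro m _
    refine lt_of_le_of_lt (degree_sum_le _ _) ?_
    rw [Finset.sup_lt_iff (WithBot.bot_lt_coe _)]
    intro k hk
    exact lt_of_le_of_lt (degree_C_mul_X_pow_le _ _) (WithBot.coe_lt_coe.2 (Finset.mem_range.1 hk))
  obtain ⟨r, hr⟩ := hR (Q 0 + T) ((hQm 0).add_of_left hT)
    (by rw [natDegree_add_eq_left_of_degree_lt hT, hQd]; exact hℓ.out.pos)
  -- pointwise
  let h' : PrimeSpectrum R → ZMod ℓ := fun p => if hp : p ∈ basicOpen (f * g) then h ⟨p, hp⟩ else 0
  have hFG : ∀ p m, φ p (y * t m) = if p ∈ basicOpen (f * g) ∧ h' p = m then φ p (F * G) else 0 := by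
    intro p m
    by_cases hp : p ∈ basicOpen (f * g)
    · have e : h' p = h ⟨p, hp⟩ := dif_pos hp
      by_cases hm : h ⟨p, hp⟩ = m
      · rw [if_pos ⟨hp, e.trans hm⟩, map_mul, ht1 m p hp hm, ← map_mul, hF, hG, mul_pow, mul_assoc]
      · rw [if_neg (fun hh' => hm (e.symm.trans hh'.2)), map_mul, ht2 m p hp hm, mul_zero]
    · rw [if_neg (fun hh' => hp hh'.1), map_mul, ht3 m p hp, mul_zero]
  have hev : ∀ p, ∃ u, φ p r = φ p (F * ι u + G * s * ι (u + h' p)) := by
    intro p
    have h1 : φ p ((Q (h' p)).eval r) = 0 := by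
      have e1 : (Q 0).eval r + T.eval r = 0 := by rw [← eval_add]; exact hr
      have e2 : φ p (T.eval r) = φ p ((Q (h' p) - Q 0).eval r) := by
        have e3 : (Q (h' p) - Q 0).eval r =
            ∑ k ∈ Finset.range ℓ, (F * G * (D (h' p)).coeff k) * r ^ k := by
          rw [eval_eq_sum_range' (n := ℓ)]
          · refine Finset.sum_congr rfl fun k _ => ?_
            rw [hD, coeff_C_mul]
          · rcases eq_or_ne (Q (h' p) - Q 0) 0 with e | e
            · rw [e, natDegree_zero]; exact hℓ.out.pos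
            · rw [natDegree_lt_iff_degree_lt e]
              exact (degree_sub_lt (by rw [degree_eq_natDegree (hQm _).ne_zero,
                degree_eq_natDegree (hQm 0).ne_zero, hQd, hQd]) (hQm _).ne_zero
                (by rw [(hQm _).leadingCoeff, (hQm 0).leadingCoeff])).trans_le
                (by rw [degree_eq_natDegree (hQm _).ne_zero, hQd])
        have e4 : T.eval r = ∑ m : ZMod ℓ, ∑ k ∈ Finset.range ℓ, y * t m * (D m).coeff k * r ^ k := by
          simp only [T, eval_finset_sum, eval_mul, eval_C, eval_pow, eval_X]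
        rw [e4, map_sum, Finset.sum_eq_single (h' p)]
        · by_cases hp : p ∈ basicOpen (f * g)
          · rw [e3, map_sum, map_sum]
            refine Finset.sum_congr rfl fun k _ => ?_
            rw [map_mul, map_mul, hFG, if_pos ⟨hp, rfl⟩, map_mul, map_mul _ (F * G * _), map_mul _ (F * G)]
            simp only [map_mul]
          · have e0 : h' p = 0 := dif_neg hp
            rw [e0, sub_self, eval_zero, map_zero, map_sum]
            exact Finset.sum_eq_zero fun k _ => by
              rw [map_mul, map_mul, hFG, if_neg (fun hh' => hp hh'.1), zero_mul, zero_mul]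
        · intro m _ hm
          rw [map_sum]
          exact Finset.sum_eq_zero fun k _ => by
            rw [map_mul, map_mul, hFG, if_neg (fun hh' => hm hh'.2.symm), zero_mul, zero_mul]
        · exact fun hn => (hn (Finset.mem_univ _)).elim
      have e5 := congrArg (φ p) e1
      rw [map_add, map_zero, e2, ← map_add, ← eval_add, add_sub_cancel] at e5
      exact e5
    simp only [Q, eval_prod, map_prod, eval_sub, eval_X, eval_C, Finset.prod_eq_zero_iff] at h1
    obtain ⟨u, -, hu⟩ := h1
    rw [map_sub, sub_eq_zero] at hu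
    exact ⟨u, hu⟩
  have hunit : ∀ p, φ p F + φ p G * φ p s * φ p ζ ^ (h' p).val ≠ 0 := by
    intro p h0
    have hzN : (φ p ζ) ^ N = 1 := by
      rw [show N = ℓ * 2 from mul_comm _ _, pow_mul, z_pow (hz p), one_pow]
    have hsN : (φ p s) ^ N = - φ p c := by
      rw [← map_pow, eq_neg_iff_add_eq_zero, ← map_add, hs, map_zero]
    have hzh : ((φ p ζ) ^ (h' p).val) ^ N = 1 := by rw [← pow_mul, mul_comm, pow_mul, hzN, one_pow]
    have e := congrArg (φ p) hc
    rw [map_add, map_mul, map_pow, map_pow, map_one, eq_neg_of_add_eq_zero_left h0,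
      Even.neg_pow ⟨ℓ, two_mul ℓ⟩, mul_pow, mul_pow, hzh, hsN] at e
    exact one_ne_zero (α := p.asIdeal.ResidueField) (by rw [← e]; ring)
  have huniq : ∀ p u u', φ p (F * ι u + G * s * ι (u + h' p)) = φ p (F * ι u' + G * s * ι (u' + h' p)) → u = u' := by
    intro p u u' e
    simp only [map_add, map_mul, hι, lab_add (hz p) _ (h' p)] at e
    refine lab_injective (hz p) (mul_left_cancel₀ (hunit p) ?_)
    linear_combination e
  choose a ha using hev
  refine ⟨fun p => a p.1, fun p => a p.1 + h' p.1, ?_, ?_, fun p => ?_⟩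
  · refine isLocallyConstant_of_isClosed_fibers fun u => ?_
    convert (isClosed_zero (f ^ K * (r - F * ι u) - s * ∑ m, t m * ι (u + m) -
      (f ^ K * G - ∑ m, t m) * (s * ι u))).preimage continuous_subtype_val using 1
    ext ⟨p, hp⟩
    have hf0 : φ p f ≠ 0 := fun h => hp (φ_eq_zero.1 h)
    have e : φ p (f ^ K * (r - F * ι u) - s * ∑ m, t m * ι (u + m) - (f ^ K * G - ∑ m, t m) * (s * ι u)) =
        φ p f ^ K * (φ p r - φ p (F * ι u + G * s * ι (u + h' p))) := by
      by_cases hp' : p ∈ basicOpen (f * g)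
      · have eh : h' p = h ⟨p, hp'⟩ := dif_pos hp'
        have e1 : ∀ (x : ZMod ℓ → R), φ p (∑ m, t m * x m) = φ p (f ^ K * G) * φ p (x (h' p)) := fun x => by
          rw [map_sum, Finset.sum_eq_single (h' p) (fun m _ hm => by
            rw [map_mul, ht2 m p hp' (fun e => hm (by rw [← e]; exact eh.symm)), zero_mul])
            (fun hn => (hn (Finset.mem_univ _)).elim), map_mul, ht1 _ p hp' eh.symm, hG, mul_pow]
        have e2 := e1 (fun _ => 1)
        simp only [mul_one, map_one] at e2
        simp only [map_sub, map_mul, e1, e2, map_add, map_pow]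
        ring
      · have e0 : h' p = 0 := dif_neg hp'
        have hg0 : φ p g = 0 := φ_eq_zero.2 <| by
          by_contra hg'
          exact hp' (by rw [basicOpen_mul]; exact ⟨hp, hg'⟩)
        have e1 : ∀ (x : ZMod ℓ → R), φ p (∑ m, t m * x m) = 0 := fun x => by
          rw [map_sum]; exact Finset.sum_eq_zero fun m _ => by rw [map_mul, ht3 m p hp', zero_mul]
        have e2 := e1 (fun _ => 1)
        simp only [mul_one] at e2
        have hG0 : φ p G = 0 := by rw [hG, map_pow, hg0, zero_pow (Nat.succ_ne_zero _)]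
        simp only [map_sub, map_mul, e1, e2, map_add, map_pow, e0, hG0]
        ring
    show a p = u ↔ φ p _ = 0
    rw [e, mul_eq_zero, or_iff_right (pow_ne_zero _ hf0), sub_eq_zero]
    exact ⟨fun h => h ▸ ha p, fun h => huniq p _ _ ((ha p).symm.trans h)⟩
  · refine isLocallyConstant_of_isClosed_fibers fun v => ?_
    convert (isClosed_zero (g ^ K * (r - G * s * ι v) - y * ∑ m, t m * ι (v - m) -
      (g ^ K * F - y * ∑ m, t m) * ι v)).preimage continuous_subtype_val using 1
    ext ⟨p, hp⟩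
    have hg0 : φ p g ≠ 0 := fun h => hp (φ_eq_zero.1 h)
    have e : φ p (g ^ K * (r - G * s * ι v) - y * ∑ m, t m * ι (v - m) - (g ^ K * F - y * ∑ m, t m) * ι v) =
        φ p g ^ K * (φ p r - φ p (F * ι (v - h' p) + G * s * ι v)) := by
      by_cases hp' : p ∈ basicOpen (f * g)
      · have eh : h' p = h ⟨p, hp'⟩ := dif_pos hp'
        have e1 : ∀ (x : ZMod ℓ → R), φ p (∑ m, t m * x m) = φ p ((f * g) ^ K) * φ p (x (h' p)) := fun x => by
          rw [map_sum, Finset.sum_eq_single (h' p) (fun m _ hm => by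
            rw [map_mul, ht2 m p hp' (fun e => hm (by rw [← e]; exact eh.symm)), zero_mul])
            (fun hn => (hn (Finset.mem_univ _)).elim), map_mul, ht1 _ p hp' eh.symm]
        have e2 := e1 (fun _ => 1)
        simp only [mul_one, map_one] at e2
        simp only [map_sub, map_mul, e1, e2, map_add, map_pow, hF, hG]
        ring
      · have e0 : h' p = 0 := dif_neg hp'
        have hf0 : φ p f = 0 := φ_eq_zero.2 <| by
          by_contra hf'
          exact hp' (by rw [basicOpen_mul]; exact ⟨hf', hp⟩)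
        have e1 : ∀ (x : ZMod ℓ → R), φ p (∑ m, t m * x m) = 0 := fun x => by
          rw [map_sum]; exact Finset.sum_eq_zero fun m _ => by rw [map_mul, ht3 m p hp', zero_mul]
        have e2 := e1 (fun _ => 1)
        simp only [mul_one] at e2
        have hF0 : φ p F = 0 := by rw [hF, map_mul, map_pow, hf0, zero_pow (Nat.succ_ne_zero _), mul_zero]
        simp only [map_sub, map_mul, e1, e2, map_add, map_pow, e0, hF0, sub_zero]
        ring
    show a p + h' p = v ↔ φ p _ = 0
    rw [e, mul_eq_zero, or_iff_right (pow_ne_zero _ hg0), sub_eq_zero]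
    refine ⟨fun h => ?_, fun h => ?_⟩
    · rw [← h, add_sub_cancel_right]; exact ha p
    · rw [huniq p (a p) (v - h' p) ((ha p).symm.trans (by rw [sub_add_cancel]; exact h)), sub_add_cancel]
  · show h p = a p.1 + h' p.1 - a p.1
    rw [add_sub_cancel_left]
    exact (show h' p.1 = h p from dif_pos p.2).symm

include hR hfg in
/-- every finite abelian group of values -/
theorem splits : ∀ (n : ℕ) (A : Type v) [AddCommGroup A] [Finite A], Nat.card A ≤ n →
    ∀ (h : ↥(basicOpen (f * g)) → A), IsLocallyConstant h → Splits f g h := by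
  intro n
  induction n with
  | zero =>
    intro A _ _ hn
    exact absurd hn (Nat.not_le.2 Nat.card_pos)
  | succ n ih =>
    intro A _ _ hn h hh
    rcases subsingleton_or_nontrivial A with hA | hA
    · exact ⟨fun _ => 0, fun _ => 0, IsLocallyConstant.const _, IsLocallyConstant.const _,
        fun p => Subsingleton.elim _ _⟩
    let ℓ := (Nat.card A).minFac
    haveI : Fact ℓ.Prime := ⟨Nat.minFac_prime Finite.one_lt_card.ne'⟩
    obtain ⟨x, hx⟩ := exists_prime_addOrderOf_dvd_card' ℓ (Nat.minFac_dvd (Nat.card A))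
    let B := AddSubgroup.zmultiples x
    have hB : Nat.card B = ℓ := (Nat.card_zmultiples x).trans hx
    have hq : Nat.card (A ⧸ B) ≤ n := by
      have h1 : Nat.card A = Nat.card (A ⧸ B) * ℓ := by
        rw [← hB]; exact AddSubgroup.card_eq_card_quotient_mul_card_addSubgroup B
      have h2 : 2 ≤ ℓ := (Fact.out : ℓ.Prime).two_le
      have h3 : 0 < Nat.card (A ⧸ B) := Nat.card_pos
      nlinarith
    obtain ⟨a, b, ha, hb, hab⟩ := ih (A ⧸ B) hq (fun p => (h p : A ⧸ B)) (hh.comp _)
    let h₁ : ↥(basicOpen (f * g)) → A := fun p =>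
      h p - ((b ⟨p.1, mem_right f g p.2⟩).out - (a ⟨p.1, mem_left f g p.2⟩).out)
    have hmem : ∀ p, h₁ p ∈ B := fun p => (QuotientAddGroup.eq_zero_iff _).1 (by
      simp only [h₁, QuotientAddGroup.mk_sub, QuotientAddGroup.out_eq', hab p, sub_self])
    have hh₁ : IsLocallyConstant h₁ :=
      hh.comp₂ (((hb.comp_continuous (continuous_subtype_val.subtype_mk _)).comp₂
        (ha.comp_continuous (continuous_subtype_val.subtype_mk _)) fun z z' => z.out - z'.out)) fun z z' => z - z'
    let e : B ≃+ ZMod ℓ := (addEquivOfPrimeCardEq (p := ℓ) hB (Nat.card_zmod ℓ))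
    have hh₂ : IsLocallyConstant fun p => e ⟨h₁ p, hmem p⟩ :=
      (IsLocallyConstant.iff_exists_open _).2 fun p => by
        obtain ⟨U, hU, hpU, hUc⟩ := (IsLocallyConstant.iff_exists_open _).1 hh₁ p
        exact ⟨U, hU, hpU, fun q hq' => by simp only [hUc q hq']⟩
    obtain ⟨a₁, b₁, ha₁, hb₁, hab₁⟩ := splits_prime hR f g hfg ℓ _ hh₂
    refine ⟨fun p => (a p).out + (e.symm (a₁ p)).1, fun p => (b p).out + (e.symm (b₁ p)).1,
      ha.comp₂ ha₁ fun z z' => z.out + (e.symm z').1, hb.comp₂ hb₁ fun z z' => z.out + (e.symm z').1, fun p => ?_⟩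
    have e1 := congrArg (fun z => (e.symm z : A)) (hab₁ p)
    simp only [AddEquiv.symm_apply_apply, map_sub, AddSubgroup.coe_sub, h₁] at e1
    rw [sub_eq_iff_eq_add.1 e1]
    exact (add_comm _ _).trans (add_sub_add_comm _ _ _ _).symm

end Groth.Agent.AICAcyc
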